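import Mathlib
import Groth.Prelude.Def_StCoarse
import Groth.Prelude.Def_StGerb
import Groth.Agent.Lib.Helper2.FibGrpd
import Groth.Agent.Lib.Helper2.AlgSt.QuotGeomPt
import Groth.Agent.Lib.Helper2.AlgSt.CoverSieve

/-!
# Coarse moduli spaces along an fppf gerbe with the universal property towards algebraic spaces
(helper2)
-/

set_option autoImplicit false
set_option backward.isDefEq.respectTransparency false
set_option backward.isDefEq.respectTransparency.types false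
set_option synthInstance.maxHeartbeats 400000
set_option maxHeartbeats 4000000
set_option linter.style.haveILetI false
set_option linter.unusedSectionVars false
set_option linter.unusedVariables false
set_option linter.unusedSimpArgs false
set_option linter.unnecessarySimpa false

namespace Groth.Agent.Helper2.CoarseGerbe
open CategoryTheory CategoryTheory.Limits AlgebraicGeometry Opposite
open Groth.Agent.Helper2 Groth.Agent.Helper2.StkLib Groth.Agent.Helper2.QuotUniv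
universe u

variable {S : Scheme.{u}} {𝒳 𝒴 : AlgSt.Cat S}

/-- A covering sieve of a geometric point is the maximal sieve. -/
theorem arrows_id_of_mem_J_algClosed {Ω : Type u} [Field Ω] [IsAlgClosed Ω]
    (t : Spec (CommRingCat.of Ω) ⟶ S) (R : Sieve (Over.mk t))
    (hR : R ∈ QuotSh.J Scheme.fppfPrecoverage S (Over.mk t)) : R.arrows (𝟙 (Over.mk t)) := by
  have h1 : Sieve.overEquiv (Over.mk t) R ∈ Scheme.fppfTopology (Over.mk t).left :=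
    (GrothendieckTopology.mem_over_iff _ _).1 hR
  haveI : Scheme.fppfPrecoverage.{u}.HasIsos := by
    unfold Scheme.fppfPrecoverage; infer_instance
  haveI : Scheme.fppfPrecoverage.{u}.HasPullbacks := by
    unfold Scheme.fppfPrecoverage; infer_instance
  obtain ⟨R₀, hR₀, hle⟩ :=
    Precoverage.mem_toGrothendieck_iff_of_isStableUnderComposition.1 h1
  obtain ⟨κ, Y, f, rfl⟩ := R₀.exists_eq_ofArrows
  rw [Scheme.fppfPrecoverage, Scheme.ofArrows_mem_precoverage_iff] at hR₀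
  obtain ⟨hsurj, hP⟩ := hR₀
  obtain ⟨i, u, hu⟩ := hsurj (Nonempty.some (inferInstance : Nonempty ↥(Spec (CommRingCat.of Ω))))
  haveI : Nonempty (Y i) := ⟨u⟩
  haveI : LocallyOfFinitePresentation (f i) := (hP i).2
  obtain ⟨σ, hσ⟩ := AlgSpBasic.exists_section_of_lft_algClosed (f i)
  have h2 : (Sieve.overEquiv (Over.mk t) R).arrows (f i) := hle _ _ (Presieve.ofArrows.mk i)
  have h3 : (Sieve.overEquiv (Over.mk t) R).arrows (σ ≫ f i) := Sieve.downward_closed _ h2 σ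
  rw [hσ] at h3
  have h4 := (Sieve.overEquiv_iff _ _).1 h3
  exact h4

/-- the image of an object of a fibre under a functor over the base -/
def fibMap (F : 𝒳 ⥤ᵇ 𝒴) {T : Over S} (x : 𝒳.p.Fiber T) : 𝒴.p.Fiber T :=
  ⟨F.obj x.1, (F.w_obj x.1).trans x.2⟩

theorem fiber_iso_of_hom (hX : FibCat.IsFibGrpd 𝒳.p) {T : Over S} {x y : 𝒳.p.Fiber T}
    (h : x.1 ⟶ y.1) (hb : 𝒳.p.IsHomLift (𝟙 T) h) : Nonempty (x ≅ y) := by
  haveI := hb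
  haveI : IsIso h := IsFibGrpd.isIso_of_isHomLift_id 𝒳.p hX (S := T) h
  exact ⟨⟨⟨h, hb⟩, ⟨inv h, inferInstance⟩, Subtype.ext (IsIso.hom_inv_id h),
    Subtype.ext (IsIso.inv_hom_id h)⟩⟩

theorem fibMap_iso (F : 𝒳 ⥤ᵇ 𝒴) (hY : FibCat.IsFibGrpd 𝒴.p) {T : Over S} {x x' : 𝒳.p.Fiber T}
    (c : x ⟶ x') : Nonempty (fibMap F x ≅ fibMap F x') := by
  haveI : 𝒳.p.IsHomLift (𝟙 T) c.1 := c.2
  exact fiber_iso_of_hom hY (x := fibMap F x) (y := fibMap F x') (F.map c.1) inferInstance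

variable {M : AlgSp.Sp S}

theorem fibSec_comp (F : 𝒳 ⥤ᵇ 𝒴) (π : 𝒴 ⥤ᵇ AlgSt.ofSp M) {T : Over S} (x : 𝒳.p.Fiber T) :
    AlgSt.fibSec (BasedFunctor.comp F π) x = AlgSt.fibSec π (fibMap F x) := rfl

theorem eq_of_iso {N : AlgSp.Sp S} {φ φ' : 𝒳 ⥤ᵇ AlgSt.ofSp N} (h : Nonempty (φ ≅ φ')) :
    φ = φ' := by
  obtain ⟨e⟩ := h
  exact QuotUniv.eq_of_ofFunctor_eq (PshSec.ofFunctor_eq_of_hom e.hom)

theorem iso_of_eq {N : AlgSp.Sp S} {φ φ' : 𝒳 ⥤ᵇ AlgSt.ofSp N} (h : φ = φ') :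
    Nonempty (φ ≅ φ') := by
  subst h; exact ⟨Iso.refl _⟩

theorem exists_lift_obj {T : Over S}
    (hT : ∀ R : Sieve T, R ∈ QuotSh.J Scheme.fppfPrecoverage S T → R.arrows (𝟙 T))
    {F : 𝒳 ⥤ᵇ 𝒴} (hobj : Gerb.LocSurjObj (QuotSh.J Scheme.fppfPrecoverage S) F)
    (hY : FibCat.IsFibGrpd 𝒴.p) (y : 𝒴.p.Fiber T) :
    ∃ x : 𝒳.p.Fiber T, Nonempty (fibMap F x ≅ y) := by
  obtain ⟨y0, hy0⟩ := y
  subst hy0
  obtain ⟨R, hR, hl⟩ := hobj y0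
  obtain ⟨x, g, hg⟩ := hl (𝟙 _) (hT R hR)
  have h1 : 𝒴.p.obj (F.obj x) = 𝒴.p.obj y0 := IsHomLift.domain_eq 𝒴.p (𝟙 (𝒴.p.obj y0)) g
  have h2 : 𝒳.p.obj x = 𝒴.p.obj y0 := (F.w_obj x).symm.trans h1
  exact ⟨⟨x, h2⟩, fiber_iso_of_hom hY (x := fibMap F ⟨x, h2⟩) (y := ⟨y0, rfl⟩) g hg⟩

theorem iso_of_fibMap_hom {T : Over S}
    (hT : ∀ R : Sieve T, R ∈ QuotSh.J Scheme.fppfPrecoverage S T → R.arrows (𝟙 T))
    {F : 𝒳 ⥤ᵇ 𝒴} (hhom : Gerb.LocSurjHom (QuotSh.J Scheme.fppfPrecoverage S) F)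
    (hX : FibCat.IsFibGrpd 𝒳.p) (x x' : 𝒳.p.Fiber T) (b : fibMap F x ⟶ fibMap F x') :
    Nonempty (x ≅ x') := by
  obtain ⟨x0, hx0⟩ := x
  subst hx0
  obtain ⟨R, hR, hl⟩ := hhom x0 x'.1 b.1 b.2
  obtain ⟨x₀, φ, ψ, hφ, hψ, -⟩ := hl (𝟙 _) (hT R hR)
  have h1 : 𝒳.p.obj x₀ = 𝒳.p.obj x0 := IsHomLift.domain_eq 𝒳.p (𝟙 (𝒳.p.obj x0)) φ
  obtain ⟨e1⟩ := fiber_iso_of_hom hX (x := ⟨x₀, h1⟩) (y := ⟨x0, rfl⟩) φ hφ
  obtain ⟨e2⟩ := fiber_iso_of_hom hX (x := ⟨x₀, h1⟩) (y := x') ψ hψ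
  exact ⟨e1.symm ≪≫ e2⟩

section main

variable (F : 𝒳 ⥤ᵇ 𝒴) (hF : Gerb.IsGerbeOver (QuotSh.J Scheme.fppfPrecoverage S) F)
    (huniv : ∀ (N : AlgSp.Sp S), AlgSp.IsAlgSpace N → ∀ φ : 𝒳 ⥤ᵇ AlgSt.ofSp N,
      ∃ ψ : 𝒴 ⥤ᵇ AlgSt.ofSp N, Nonempty (BasedFunctor.comp F ψ ≅ φ) ∧
        ∀ ψ' : 𝒴 ⥤ᵇ AlgSt.ofSp N, Nonempty (BasedFunctor.comp F ψ' ≅ φ) → Nonempty (ψ' ≅ ψ))
    (hX : FibCat.IsFibGrpd 𝒳.p) (hY : FibCat.IsFibGrpd 𝒴.p)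

include hF huniv hX hY

theorem isCoarse_comp (π : 𝒴 ⥤ᵇ AlgSt.ofSp M) (hπ : AlgSt.IsCoarseModuli π) :
    AlgSt.IsCoarseModuli (BasedFunctor.comp F π) := by
  obtain ⟨⟨hM, hcat⟩, hgeo⟩ := hπ
  refine ⟨⟨hM, fun N hN φ => ?_⟩, fun Ω _ _ t => ?_⟩
  · obtain ⟨ψ, hψ, hψu⟩ := huniv N hN φ
    obtain ⟨g, hg, hgu⟩ := hcat N hN ψ
    have e1 : BasedFunctor.comp F ψ = φ := eq_of_iso hψ
    have e2 : BasedFunctor.comp π (AlgSt.ofSpMap g) = ψ := eq_of_iso hg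
    refine ⟨g, ?_, fun g' hg' => ?_⟩
    · apply iso_of_eq
      show BasedFunctor.comp F (BasedFunctor.comp π (AlgSt.ofSpMap g)) = φ
      rw [e2, e1]
    · apply hgu
      have e3 : BasedFunctor.comp F (BasedFunctor.comp π (AlgSt.ofSpMap g')) = φ := eq_of_iso hg'
      exact hψu _ (iso_of_eq e3)
  · obtain ⟨hsurj, hinj⟩ := hgeo Ω t
    have hT := arrows_id_of_mem_J_algClosed t
    refine ⟨fun m => ?_, fun x x' hxx' => ?_⟩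
    · obtain ⟨y, hy⟩ := hsurj m
      obtain ⟨x, ⟨e⟩⟩ := exists_lift_obj hT hF.1 hY y
      refine ⟨x, ?_⟩
      rw [fibSec_comp, ← hy]
      exact fibSec_eq_of_hom π e.hom
    · have h2 : AlgSt.fibSec π (fibMap F x) = AlgSt.fibSec π (fibMap F x') := hxx'
      obtain ⟨b⟩ := hinj _ _ h2
      exact iso_of_fibMap_hom hT hF.2 hX x x' b.hom

theorem exists_coarse_of_comp (π' : 𝒳 ⥤ᵇ AlgSt.ofSp M) (hπ' : AlgSt.IsCoarseModuli π') :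
    ∃ π : 𝒴 ⥤ᵇ AlgSt.ofSp M, AlgSt.IsCoarseModuli π := by
  obtain ⟨⟨hM, hcat⟩, hgeo⟩ := hπ'
  obtain ⟨ψ, hψ, -⟩ := huniv M hM π'
  have e1 : BasedFunctor.comp F ψ = π' := eq_of_iso hψ
  subst e1
  refine ⟨ψ, ⟨hM, fun N hN φ => ?_⟩, fun Ω _ _ t => ?_⟩
  · obtain ⟨g, hg, hgu⟩ := hcat N hN (BasedFunctor.comp F φ)
    have e2 : BasedFunctor.comp (BasedFunctor.comp F ψ) (AlgSt.ofSpMap g) = BasedFunctor.comp F φ :=
      eq_of_iso hg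
    obtain ⟨ψ₀, -, hψ₀u⟩ := huniv N hN (BasedFunctor.comp F φ)
    refine ⟨g, ?_, fun g' hg' => ?_⟩
    · have h1 : Nonempty (φ ≅ ψ₀) := hψ₀u φ ⟨Iso.refl _⟩
      have h2 : Nonempty (BasedFunctor.comp ψ (AlgSt.ofSpMap g) ≅ ψ₀) := by
        apply hψ₀u
        exact iso_of_eq e2
      exact iso_of_eq ((eq_of_iso h2).trans (eq_of_iso h1).symm)
    · apply hgu
      apply iso_of_eq
      have e3 : BasedFunctor.comp ψ (AlgSt.ofSpMap g') = φ := eq_of_iso hg'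
      show BasedFunctor.comp F (BasedFunctor.comp ψ (AlgSt.ofSpMap g')) = _
      rw [e3]
  · obtain ⟨hsurj, hinj⟩ := hgeo Ω t
    have hT := arrows_id_of_mem_J_algClosed t
    refine ⟨fun m => ?_, fun y y' hyy' => ?_⟩
    · obtain ⟨x, hx⟩ := hsurj m
      exact ⟨fibMap F x, hx⟩
    · obtain ⟨x, ⟨e⟩⟩ := exists_lift_obj hT hF.1 hY y
      obtain ⟨x', ⟨e'⟩⟩ := exists_lift_obj hT hF.1 hY y'
      have h1 : AlgSt.fibSec (BasedFunctor.comp F ψ) x = AlgSt.fibSec (BasedFunctor.comp F ψ) x' := by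
        rw [fibSec_comp, fibSec_comp, fibSec_eq_of_hom ψ e.hom, fibSec_eq_of_hom ψ e'.hom]
        exact hyy'
      obtain ⟨c⟩ := hinj x x' h1
      obtain ⟨d⟩ := fibMap_iso F hY c.hom
      exact ⟨e.symm ≪≫ d ≪≫ e'⟩

end main

theorem main (S : Scheme.{u}) (𝒳 𝒴 : AlgSt.Cat S)
    (h𝒳 : AlgSt.IsAlgStack Scheme.fppfPrecoverage 𝒳) (h𝒴 : AlgSt.IsAlgStack Scheme.fppfPrecoverage 𝒴)
    (F : 𝒳 ⥤ᵇ 𝒴) (hF : Gerb.IsGerbeOver (QuotSh.J Scheme.fppfPrecoverage S) F)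
    (huniv : ∀ (N : AlgSp.Sp S), AlgSp.IsAlgSpace N → ∀ φ : 𝒳 ⥤ᵇ AlgSt.ofSp N,
      ∃ ψ : 𝒴 ⥤ᵇ AlgSt.ofSp N, Nonempty (BasedFunctor.comp F ψ ≅ φ) ∧
        ∀ ψ' : 𝒴 ⥤ᵇ AlgSt.ofSp N, Nonempty (BasedFunctor.comp F ψ' ≅ φ) → Nonempty (ψ' ≅ ψ)) :
    ((∃ (M : AlgSp.Sp S) (π : 𝒴 ⥤ᵇ AlgSt.ofSp M), AlgSt.IsCoarseModuli π) ↔
        ∃ (M : AlgSp.Sp S) (π : 𝒳 ⥤ᵇ AlgSt.ofSp M), AlgSt.IsCoarseModuli π) ∧
      ∀ (M : AlgSp.Sp S) (π : 𝒴 ⥤ᵇ AlgSt.ofSp M), AlgSt.IsCoarseModuli π →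
        AlgSt.IsCoarseModuli (BasedFunctor.comp F π) := by
  have hX : FibCat.IsFibGrpd 𝒳.p := h𝒳.isStack.1
  have hY : FibCat.IsFibGrpd 𝒴.p := h𝒴.isStack.1
  refine ⟨⟨?_, ?_⟩, fun M π hπ => isCoarse_comp F hF huniv hX hY π hπ⟩
  · rintro ⟨M, π, hπ⟩
    exact ⟨M, _, isCoarse_comp F hF huniv hX hY π hπ⟩
  · rintro ⟨M, π', hπ'⟩
    obtain ⟨π, hπ⟩ := exists_coarse_of_comp F hF huniv hX hY π' hπ'
    exact ⟨M, π, hπ⟩

end Groth.Agent.Helper2.CoarseGerbe
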